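import Groth.Agent.BorelLib.Schemes
import Groth.Agent.BorelLib.BaseChange
import Groth.Agent.BorelLib.Dense
import Groth.Agent.FinFixLib.Main
import Groth.Agent.MaxTorFieldLib.General
import Groth.Agent.MaxTorFieldLib.Step
import Groth.Agent.S7520

/-!
# Elements of finite order prime to the characteristic lie in tori
-/

set_option autoImplicit false
set_option linter.style.haveILetI false
set_option backward.isDefEq.respectTransparency false
set_option maxHeartbeats 1000000
set_option synthInstance.maxHeartbeats 400000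

noncomputable section

universe u

open CategoryTheory CategoryTheory.Limits MonoidalCategory CartesianMonoidalCategory AlgebraicGeometry
open scoped MonObj

attribute [-instance] CategoryTheory.Hom.commGroup

namespace Groth.Agent.FinOrdTor

open BorelLib

attribute [local instance] pTop pTopTensor

section closed

variable {k : Type u} [Field k] [IsAlgClosed k] {G : Over (Spec (CommRingCat.of k))} [GrpObj G] [Smooth G.hom]
  [IsAffine G.left] [ConnectedSpace G.left]

/-- Over an algebraically closed field every torsion point prime to the characteristic lies in a torus. -/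
theorem exists_torus_point (x : 𝟙_ (Over (Spec (CommRingCat.of k))) ⟶ G) {m : ℕ} (hm : (m : k) ≠ 0) (hx : x ^ m = 1) :
    ∃ (T : Over (Spec (CommRingCat.of k))) (_ : GrpObj T) (iT : T ⟶ G) (b : 𝟙_ (Over (Spec (CommRingCat.of k))) ⟶ T),
      IsMonHom iT ∧ Red.IsTorus T ∧ b ≫ iT = x := by
  obtain ⟨A, _, _, v, hv, hA, hred⟩ := exists_setup G
  haveI := hv; haveI := hA; haveI := hred
  let t := (ptEquiv v).symm x
  have ht : IsPT t := ⟨m, hm, by rw [← map_pow, hx, map_one]⟩
  obtain ⟨hKc, hK⟩ := facts_top v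
  obtain ⟨B, hB, -, -⟩ := IsBor.exists_conj_universal (K := (⊤ : Subgroup (Pt k A))) hKc hK
  obtain ⟨a, ha⟩ := exists_conj_mem_bor (isPreconnected_univ_of_connected v) hB t
  obtain ⟨D⟩ := exists_flagRep hB.conn hB.sol
  obtain ⟨S, -, hS, -, -, hconj⟩ := D.exists_torus_decomp hB.closed hB.conn
  obtain ⟨u, -, -, hu⟩ := hconj _ ha (by simpa using ht.conj a⁻¹)
  obtain ⟨T, _, iT, hi, -, -, hT, hi', hpts⟩ := exists_torus_sub v (hS.conjSub (a * u⁻¹))
  have h : t ∈ ptsSub v iT := by
    rw [hpts, mem_conjSub]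
    simpa [mul_assoc] using hu
  obtain ⟨b, hb⟩ := (mem_ptsSub v).1 h
  exact ⟨T, inferInstance, iT, b, hi, hT, hb.trans ((ptEquiv v).apply_symm_apply x)⟩

/-- A central torsion point prime to the characteristic lies in every maximal torus. -/
theorem central_mem_maxTorus {T : Over (Spec (CommRingCat.of k))} [GrpObj T] {iT : T ⟶ G}
    (hT : AGF.IsMaxTorus iT) (x : 𝟙_ (Over (Spec (CommRingCat.of k))) ⟶ G) {m : ℕ} (hm : (m : k) ≠ 0) (hx : x ^ m = 1)
    (hc : ∀ y : 𝟙_ (Over (Spec (CommRingCat.of k))) ⟶ G, Commute x y) :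
    ∃ b : 𝟙_ (Over (Spec (CommRingCat.of k))) ⟶ T, b ≫ iT = x := by
  obtain ⟨A, _, _, v, hv, hA, hred⟩ := exists_setup G
  haveI := hv; haveI := hA; haveI := hred
  haveI := hT.1; haveI := hT.2.1
  let t := (ptEquiv v).symm x
  have ht : IsPT t := ⟨m, hm, by rw [← map_pow, hx, map_one]⟩
  obtain ⟨hKc, hK⟩ := facts_top v
  have hM := isMaxTor_ptsSub v hT
  have hmem : t ∈ cart ⊤ (ptsSub v iT) := by
    refine le_neut ?_ le_rfl ⟨trivial, Subgroup.mem_centralizer_iff.2 fun s _ => ?_⟩
    · simpa using isPreconnected_centralizer_tor hKc hK hM.tor le_top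
    · apply (ptEquiv v).injective
      rw [map_mul, map_mul, MulEquiv.apply_symm_apply]
      exact (hc _).symm.eq
  obtain ⟨b, hb⟩ := (mem_ptsSub v).1 (hM.mem_of_isPT hKc hmem ht)
  exact ⟨b, hb.trans ((ptEquiv v).apply_symm_apply x)⟩

end closed

section fixed

variable {C : Type*} [Category C] [CartesianMonoidalCategory C] {Γ : C} [GrpObj Γ]

/-- Conjugation by a global point. -/
def conjPt (g : 𝟙_ C ⟶ Γ) : Γ ⟶ Γ := (toUnit Γ ≫ g) * 𝟙 Γ * (toUnit Γ ≫ g)⁻¹

theorem comp_conjPt {X : C} (t : X ⟶ Γ) (g : 𝟙_ C ⟶ Γ) :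
    t ≫ conjPt g = (toUnit X ≫ g) * t * (toUnit X ≫ g)⁻¹ := by
  simp only [conjPt, MonObj.comp_mul, GrpObj.comp_inv, Category.comp_id, ← Category.assoc, comp_toUnit]

theorem conjPt_mul (g h : 𝟙_ C ⟶ Γ) : conjPt (g * h) = conjPt h ≫ conjPt g := by
  rw [comp_conjPt, conjPt, conjPt, MonObj.comp_mul, mul_inv_rev]
  simp only [_root_.mul_assoc]

theorem conjPt_one : conjPt (1 : 𝟙_ C ⟶ Γ) = 𝟙 Γ := by
  simp [conjPt, MonObj.comp_one]

theorem comp_conjPt_eq_self_iff {X : C} (t : X ⟶ Γ) (g : 𝟙_ C ⟶ Γ) :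
    t ≫ conjPt g = t ↔ Commute (toUnit X ≫ g) t := by
  rw [comp_conjPt, mul_inv_eq_iff_eq_mul]
  rfl

/-- Conjugation as a homomorphism to automorphisms. -/
def conjAut : (𝟙_ C ⟶ Γ) →* Aut Γ where
  toFun g :=
    { hom := conjPt g
      inv := conjPt g⁻¹
      hom_inv_id := by rw [← conjPt_mul, inv_mul_cancel, conjPt_one]
      inv_hom_id := by rw [← conjPt_mul, mul_inv_cancel, conjPt_one] }
  map_one' := Iso.ext conjPt_one
  map_mul' g h := Iso.ext (conjPt_mul g h)

/-- Composition with the projection as a homomorphism. -/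
def cstHom (X : C) : (𝟙_ C ⟶ Γ) →* (X ⟶ Γ) where
  toFun g := toUnit X ≫ g
  map_one' := MonObj.comp_one _
  map_mul' := fun g h => MonObj.comp_mul _ g h

/-- Composition with a homomorphism. -/
def postHom {Δ : C} [GrpObj Δ] (f : Γ ⟶ Δ) [IsMonHom f] {X : C} : (X ⟶ Γ) →* (X ⟶ Δ) where
  toFun g := g ≫ f
  map_one' := MonObj.one_comp f
  map_mul' := fun g h => MonObj.mul_comp g h f

end fixed

variable {K : Type u} [Field K]

/-- The centraliser of a torsion point prime to the characteristic is smooth. -/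
theorem exists_smooth_centralizer (Γ : Over (Spec (CommRingCat.of K))) [GrpObj Γ] [IsAffine Γ.left] [Smooth Γ.hom]
    (x : 𝟙_ (Over (Spec (CommRingCat.of K))) ⟶ Γ) (hx : IsOfFinOrder x) (hcop : ((orderOf x : ℕ) : K) ≠ 0) :
    ∃ (Z : Over (Spec (CommRingCat.of K))) (_ : GrpObj Z) (j : Z ⟶ Γ),
      IsMonHom j ∧ IsClosedImmersion j.left ∧ Mono j ∧ Smooth Z.hom ∧
      ∀ (X : Over (Spec (CommRingCat.of K))) (t : X ⟶ Γ), (∃ l, l ≫ j = t) ↔ Commute (toUnit X ≫ x) t := by
  classical
  haveI : IsSeparated Γ.hom := inferInstance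
  obtain ⟨Z, j, hjc, hjp, hj⟩ := FinFixLib.exists_fixed_closed (X := Γ) (fun _ : Unit => conjPt x) Finset.univ
  haveI := hjc; haveI := hjp
  haveI : Mono j := DiagRep.mono_of_isClosedImmersion j hjc
  have hP : ∀ (X : Over (Spec (CommRingCat.of K))) (t : X ⟶ Γ),
      (∃ l, l ≫ j = t) ↔ Commute (toUnit X ≫ x) t := fun X t => by
    rw [← hj, ← comp_conjPt_eq_self_iff]
    exact ⟨fun h => h () (Finset.mem_univ _), fun h _ _ => h⟩
  obtain ⟨_, hjm⟩ := WeilRes.exists_grpObj_of_pred j (fun {X} t => Commute (toUnit X ≫ x) t) (fun {X} t => hP X t)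
    (Commute.one_right _) (fun a b ha hb => ha.mul_right hb) (fun a ha => ha.inv_right)
  haveI : LocallyOfFinitePresentation Z.hom := by rw [← Over.w j]; infer_instance
  haveI : Finite (Subgroup.zpowers x) := hx.finite_zpowers
  have hpow : ∀ (g : Subgroup.zpowers x) (X : Over (Spec (CommRingCat.of K))) (t : X ⟶ Γ),
      Commute (toUnit X ≫ x) t → t ≫ conjPt (g : 𝟙_ (Over (Spec (CommRingCat.of K))) ⟶ Γ) = t := by
    rintro ⟨g, n, rfl⟩ X t ht
    rw [comp_conjPt_eq_self_iff]
    show Commute (cstHom X (x ^ n)) t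
    rw [map_zpow]
    exact ht.zpow_left n
  refine ⟨Z, inferInstance, j, hjm, hjc, inferInstance, ?_, hP⟩
  refine FinFixLib.smooth_fixed (conjAut.comp (Subgroup.zpowers x).subtype) ?_ j (fun g => ?_) (fun T t h => ?_)
  · rw [Nat.card_zpowers, show ((orderOf x : ℕ) : Γ(Spec (CommRingCat.of K), ⊤)) =
      (Scheme.ΓSpecIso (CommRingCat.of K)).inv.hom (orderOf x : K) from (map_natCast _ _).symm]
    exact (isUnit_iff_ne_zero.2 hcop).map _
  · exact hpow g Z j ((hP Z j).1 ⟨𝟙 Z, Category.id_comp j⟩)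
  · exact (hP T t).2 ((comp_conjPt_eq_self_iff t x).1 (h ⟨x, Subgroup.mem_zpowers x⟩))

open PowEtCentralLib in
/-- Finite order points prime to the characteristic of connected smooth affine groups lie in tori. -/
theorem exists_torus_through (Γ : Over (Spec (CommRingCat.of K))) [GrpObj Γ] [IsAffine Γ.left] [Smooth Γ.hom]
    [ConnectedSpace Γ.left]
    (x : 𝟙_ (Over (Spec (CommRingCat.of K))) ⟶ Γ) (hx : IsOfFinOrder x) (hcop : ((orderOf x : ℕ) : K) ≠ 0) :
    ∃ (T : Over (Spec (CommRingCat.of K))) (_ : GrpObj T) (i : T ⟶ Γ)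
      (y : 𝟙_ (Over (Spec (CommRingCat.of K))) ⟶ T), IsMonHom i ∧ Mono i ∧ Red.IsTorus T ∧ y ≫ i = x := by
  obtain ⟨Z, _, j, hjm, hjc, hjmono, hZs, hP⟩ := exists_smooth_centralizer Γ x hx hcop
  haveI := hjm; haveI := hjc; haveI := hjmono; haveI := hZs
  haveI : IsAffine Z.left := isAffine_of_isAffineHom j.left
  obtain ⟨xZ, hxZ⟩ := (hP _ x).2 (by
    rw [toUnit_unique (toUnit (𝟙_ (Over (Spec (CommRingCat.of K))))) (𝟙 _), Category.id_comp])
  obtain ⟨G₀, _, incl, hincl, hc, hflat, hrange, hirr, hcpt⟩ := Groth.Agent.S7520.result K Z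
  haveI := hincl; haveI := hc; haveI := hflat; haveI := hirr
  haveI : Mono incl := DiagRep.mono_of_isClosedImmersion incl hc
  haveI : IsLocallyNoetherian Z.left := LocallyOfFiniteType.isLocallyNoetherian Z.hom
  haveI : LocallyOfFinitePresentation incl.left := inferInstance
  haveI : IsOpenImmersion incl.left := IsOpenImmersion.of_flat_of_mono incl.left
  haveI : Smooth G₀.hom := by rw [← Over.w incl]; infer_instance
  haveI : IsAffine G₀.left := isAffine_of_isAffineHom incl.left
  haveI : ConnectedSpace G₀.left := by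
    haveI : IrreducibleSpace G₀.left := GeometricallyIrreducible.irreducibleSpace_of_subsingleton G₀.hom
    infer_instance
  let s : ↥(Spec (CommRingCat.of K)) := IsLocalRing.closedPoint K
  let π := Red.geomPt s
  obtain ⟨_, -, hπ⟩ := BorelLib.exists_geomPt_algebra s
  let L := AlgebraicClosure ((Spec (CommRingCat.of K)).residueField s)
  obtain ⟨hΓ1, hΓ2, hΓ3⟩ := geom_facts s Γ
  haveI := hΓ1; haveI := hΓ2; haveI := hΓ3
  obtain ⟨hG1, hG2, hG3⟩ := geom_facts s G₀
  haveI := hG1; haveI := hG2; haveI := hG3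
  haveI : PreservesLimitsOfSize.{0, 0} (Over.pullback π) := (Over.mapPullbackAdj _).rightAdjoint_preservesLimits
  haveI := DiagRep.isMonHom_bc_map π j
  haveI := DiagRep.isMonHom_bc_map π incl
  let U : Over (Spec (CommRingCat.of L)) := 𝟙_ _
  have hnat : ∀ {A B : Over (Spec (CommRingCat.of K))} [GrpObj A] [GrpObj B] (f : A ⟶ B)
      (X : Over (Spec (CommRingCat.of L))) (a : (Over.map π).obj X ⟶ A),
      adjEquiv π X (a ≫ f) = adjEquiv π X a ≫ (Over.pullback π).map f := fun f X a =>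
    Adjunction.homEquiv_naturality_right _ a f
  have hnat' : ∀ {A : Over (Spec (CommRingCat.of K))} [GrpObj A]
      (X Y : Over (Spec (CommRingCat.of L))) (q : X ⟶ Y) (a : (Over.map π).obj Y ⟶ A),
      adjEquiv π X ((Over.map π).map q ≫ a) = q ≫ adjEquiv π Y a := fun X Y q a =>
    Adjunction.homEquiv_naturality_left _ q a
  have hleft : ∀ {A : Over (Spec (CommRingCat.of K))} [GrpObj A] (a : (Over.map π).obj U ⟶ A),
      (adjEquiv π U a).left ≫ pullback.fst A.hom π = a.left := fun a => by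
    simp [adjEquiv, Over.mapPullbackAdj]
  have hcast : ((orderOf x : ℕ) : L) ≠ 0 := by
    rw [← map_natCast (algebraMap K L)]
    exact (map_ne_zero _).2 hcop
  let xg : U ⟶ Red.geomFibre s Γ := adjEquiv π U (toUnit _ ≫ x)
  have hxg : xg ^ orderOf x = 1 := by
    rw [← map_pow, show (toUnit ((Over.map π).obj U) ≫ x) ^ orderOf x = cstHom _ (x ^ orderOf x) from
      (map_pow (cstHom _) x _).symm, pow_orderOf_eq_one, map_one, map_one]
  obtain ⟨S, _, iS, b, hiS, hS, hb⟩ := exists_torus_point (G := Red.geomFibre s Γ) xg hcast hxg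
  haveI := hiS
  haveI := FixConn.connectedSpace_torus hS
  obtain ⟨l, hl⟩ := (hP _ ((adjEquiv π S).symm iS)).2 (by
    apply (adjEquiv π S).injective
    rw [map_mul, map_mul, MulEquiv.apply_symm_apply,
      show toUnit ((Over.map π).obj S) ≫ x = (Over.map π).map (toUnit S) ≫ (toUnit ((Over.map π).obj U) ≫ x) by
        rw [← Category.assoc, comp_toUnit], hnat', show adjEquiv π U (toUnit _ ≫ x) = xg from rfl, ← hb,
      ← Category.assoc]
    have := RCentre.commute_torus hS (toUnit S ≫ b) (𝟙 S)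
    have h2 := congrArg (fun z => z ≫ iS) this
    simpa only [MonObj.mul_comp, Category.id_comp] using h2)
  have hl' : adjEquiv π S l ≫ (Over.pullback π).map j = iS := by rw [← hnat, hl, MulEquiv.apply_symm_apply]
  haveI : Mono ((Over.pullback π).map j) := inferInstance
  haveI : IsMonHom (adjEquiv π S l ≫ (Over.pullback π).map j) := by rw [hl']; infer_instance
  haveI : IsMonHom (adjEquiv π S l) := DiagRep.isMonHom_of_comp_mono _ ((Over.pullback π).map j)
  have hpb : IsPullback ((Over.pullback π).map incl).left (pullback.fst G₀.hom π) (pullback.fst Z.hom π) incl.left := by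
    refine (IsPullback.of_bot (h₂₁ := pullback.fst Z.hom π) (h₃₁ := π) ?_ (pullback.lift_fst _ _ _).symm
      (IsPullback.of_hasPullback Z.hom π)).flip
    rw [pullback.lift_snd, Over.w incl]
    exact IsPullback.of_hasPullback G₀.hom π
  haveI : IsOpenImmersion ((Over.pullback π).map incl).left :=
    MorphismProperty.of_isPullback (P := @IsOpenImmersion) hpb.flip inferInstance
  haveI : IsClosedImmersion ((Over.pullback π).map incl).left :=
    MorphismProperty.of_isPullback (P := @IsClosedImmersion) hpb.flip inferInstance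
  obtain ⟨p, hp⟩ := MaxTorField.exists_factor_clopen ((Over.pullback π).map incl)
    ((Over.pullback π).map incl).left.isClosedEmbedding.isClosed_range (adjEquiv π S l)
  have hxpt : adjEquiv π U (toUnit _ ≫ xZ) = b ≫ p ≫ (Over.pullback π).map incl := by
    rw [← cancel_mono ((Over.pullback π).map j), ← hnat, Category.assoc, hxZ, Category.assoc, Category.assoc,
      reassoc_of% hp, hl', hb]
  have hxr : Set.range xZ.left ⊆ Set.range incl.left := by
    rintro _ ⟨z, rfl⟩
    refine ⟨(b ≫ p).left ≫ pullback.fst G₀.hom π |>.base (IsLocalRing.closedPoint L), ?_⟩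
    have h1 := congrArg (fun q => q.left ≫ pullback.fst Z.hom π) hxpt
    simp only [hleft, Over.comp_left, Category.assoc] at h1
    rw [hpb.w] at h1
    have h2 := congrArg (fun m => m.base (IsLocalRing.closedPoint L)) h1
    simp only [Scheme.Hom.comp_apply] at h2 ⊢
    refine h2.symm.trans ?_
    exact congrArg xZ.left (@Subsingleton.elim (PrimeSpectrum K) _ _ _)
  haveI : AlgebraicGeometry.IsReduced (𝟙_ (Over (Spec (CommRingCat.of K)))).left :=
    inferInstanceAs (AlgebraicGeometry.IsReduced (Spec (CommRingCat.of K)))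
  obtain ⟨x₁, hx₁⟩ := AVAmpleLib.exists_lift_of_reduced incl.left xZ.left hxr
  let x₀ : 𝟙_ (Over (Spec (CommRingCat.of K))) ⟶ G₀ :=
    Over.homMk x₁ (by rw [← Over.w xZ, ← hx₁, Category.assoc, Over.w incl])
  have hx₀ : x₀ ≫ incl ≫ j = x := by
    rw [← Category.assoc, show x₀ ≫ incl = xZ from Over.OverMorphism.ext hx₁, hxZ]
  have hcomm : ∀ (X : Over (Spec (CommRingCat.of K))) (t : X ⟶ G₀), Commute (toUnit X ≫ x₀) t := fun X t => by
    show _ = _
    rw [← cancel_mono (incl ≫ j), MonObj.mul_comp, MonObj.mul_comp, Category.assoc, hx₀, ← Category.assoc t]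
    exact ((hP X _).1 ⟨t ≫ incl, rfl⟩).eq
  obtain ⟨T, _, iT, hiT⟩ := MaxTorField.exists_maximalTorus_affine' G₀
  haveI := hiT.1; haveI := hiT.2.1
  have hinj : Function.Injective fun g : 𝟙_ (Over (Spec (CommRingCat.of K))) ⟶ G₀ => g ≫ incl ≫ j :=
    fun a c h => (cancel_mono (incl ≫ j)).1 h
  have hx₀pow : x₀ ^ orderOf x = 1 := hinj (by
    show (x₀ ^ orderOf x) ≫ incl ≫ j = (1 : _ ⟶ G₀) ≫ incl ≫ j
    rw [show (x₀ ^ orderOf x) ≫ incl ≫ j = (Groth.Agent.FinOrdTor.postHom (incl ≫ j)) (x₀ ^ orderOf x) from rfl,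
      map_pow]
    show (x₀ ≫ incl ≫ j) ^ orderOf x = _
    rw [hx₀, pow_orderOf_eq_one, MonObj.one_comp])
  obtain ⟨c, hc'⟩ := central_mem_maxTorus (isMaxTorus_geom s hiT) (adjEquiv π U (toUnit _ ≫ x₀)) hcast (by
      rw [← map_pow, show (toUnit ((Over.map π).obj U) ≫ x₀) ^ orderOf x = cstHom _ (x₀ ^ orderOf x) from
        (map_pow (cstHom _) x₀ _).symm, hx₀pow, map_one, map_one])
    fun y => by
      obtain ⟨y', rfl⟩ := (adjEquiv π U).surjective y
      exact (hcomm _ y').map (adjEquiv π U)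
  haveI : IsAffineHom T.hom := MultEq.isAffineHom_of_isMultTypeFT (RedRank.isMultTypeFT_of_isTorus hiT.2.2.1)
  haveI : IsAffine T.left := isAffine_of_isAffineHom T.hom
  haveI : Smooth T.hom := MaxTorConj.smooth_of_isTorus hiT.2.2.1
  haveI : IsClosedImmersion iT.left := GrpHom.isClosedImmersion_of_mono iT
  have hxr' : Set.range x₀.left ⊆ Set.range iT.left := by
    rintro _ ⟨z, rfl⟩
    refine ⟨c.left ≫ pullback.fst T.hom π |>.base (IsLocalRing.closedPoint L), ?_⟩
    have h1 := congrArg (fun q => q.left ≫ pullback.fst G₀.hom π) hc'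
    simp only [hleft, Over.comp_left, Category.assoc] at h1
    rw [show ((Over.pullback π).map iT).left ≫ pullback.fst G₀.hom π = pullback.fst T.hom π ≫ iT.left from
      pullback.lift_fst _ _ _] at h1
    have h2 := congrArg (fun m => m.base (IsLocalRing.closedPoint L)) h1
    simp only [Scheme.Hom.comp_apply] at h2 ⊢
    refine h2.trans ?_
    exact congrArg x₀.left (@Subsingleton.elim (PrimeSpectrum K) _ _ _)
  obtain ⟨y₁, hy₁⟩ := AVAmpleLib.exists_lift_of_reduced iT.left x₀.left hxr'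
  let y : 𝟙_ (Over (Spec (CommRingCat.of K))) ⟶ T :=
    Over.homMk y₁ (by rw [← Over.w x₀, ← hy₁, Category.assoc, Over.w iT])
  refine ⟨T, inferInstance, iT ≫ incl ≫ j, y, inferInstance, inferInstance, hiT.2.2.1, ?_⟩
  rw [← Category.assoc, show y ≫ iT = x₀ from Over.OverMorphism.ext hy₁, hx₀]

end Groth.Agent.FinOrdTor

end
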